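import Mathlib
import Groth.Prelude
import Groth.Agent.H4.KF2
import Groth.Agent.Lib.Helper8.LCIHom.Local
import Groth.Agent.Lib.Helper8.Synt.Field
import Groth.Agent.Lib.Helper8.GCI.LCI
import Groth.Agent.Lib.Helper6.Liai1
import Groth.Agent.Lib.Helper1.WeakAssFibre
import Groth.Agent.Lib.Helper1.AssFlat
import Groth.Agent.Lib.Helper8.Hens.Fibre
import Groth.Agent.Lib.Helper8.LCI.KRCot
import Groth.Agent.Lib.Helper8.LCI.Transfer

/-!
# `H_1(NL) = 0` for flat lci algebras with generically smooth fibres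
-/

set_option autoImplicit false
set_option linter.style.haveILetI false

universe u

namespace Groth.Agent.H8.H1LCI

open TensorProduct

attribute [local instance] Algebra.TensorProduct.rightAlgebra

section fibreCM

variable {A B : Type u} [CommRing A] [CommRing B] [Algebra A B] [Module.Flat A B]

/-- the fibres of a flat lci algebra are Cohen–Macaulay rings. -/
theorem isCohenMacaulayRing_fiber (h : LCI.IsLCI A B) (p : Ideal A) [p.IsPrime] :
    LocCoh.IsCohenMacaulayRing (p.Fiber B) := by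
  have h1 : LCI.IsLCI p.ResidueField (B ⊗[A] p.ResidueField) :=
    Groth.Agent.H4.KF2.isLCI_baseChange h
  let e : (B ⊗[A] p.ResidueField) ≃ₐ[p.ResidueField] (p.ResidueField ⊗[A] B) :=
    AlgEquiv.ofRingEquiv (f := (Algebra.TensorProduct.comm A B p.ResidueField).toRingEquiv)
      (fun c => by
        show (Algebra.TensorProduct.comm A B p.ResidueField) ((1 : B) ⊗ₜ[A] c) = _
        rw [Algebra.TensorProduct.comm_tmul, Algebra.TensorProduct.algebraMap_apply]
        rfl)
  have h2 : LCI.IsLCI p.ResidueField (p.ResidueField ⊗[A] B) :=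
    Groth.Agent.H8.LCIHom.isLCI_of_algEquiv e h1
  exact Groth.Agent.H8.GCI.isCohenMacaulayRing_of_isLCIOver _
    (Groth.Agent.H8.Synt.isLCIOver_of_isLCI_field _ _ h2)

end fibreCM

section ass

variable {A B : Type u} [CommRing A] [IsNoetherianRing A] [CommRing B] [Algebra A B]
  [Module.Flat A B]

open Groth.Agent.H1.AssFibre Groth.Agent.H1.WeakAssFibre

/-- associated primes of a flat lci algebra over a Noetherian ring are minimal in their fibre. -/
theorem eq_of_le_of_mem_associatedPrimes (h : LCI.IsLCI A B) (𝔮 𝔮' : Ideal B)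
    [h𝔮' : 𝔮'.IsPrime] (h𝔮 : 𝔮 ∈ associatedPrimes B B) (hle : 𝔮' ≤ 𝔮)
    (hcomap : 𝔮'.comap (algebraMap A B) = 𝔮.comap (algebraMap A B)) : 𝔮' = 𝔮 := by
  haveI : 𝔮.IsPrime := h𝔮.1
  haveI : Algebra.FiniteType A B := h.1
  haveI : IsNoetherianRing B := Algebra.FiniteType.isNoetherianRing A B
  set p := 𝔮.comap (algebraMap A B) with hp
  haveI : p.IsPrime := Ideal.comap_isPrime _ _
  haveI : 𝔮.LiesOver p := ⟨rfl⟩
  haveI : 𝔮'.LiesOver p := ⟨hcomap.symm⟩
  have hb0 : 𝔮 ∈ associatedPrimes B (B ⊗[A] A) := by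
    rw [LinearEquiv.AssociatedPrimes.eq (TensorProduct.AlgebraTensorModule.rid A B B)]
    exact h𝔮
  have hb : 𝔮 ∈ associatedPrimes B (B ⊗[A] (A ⧸ p)) :=
    Groth.Agent.H1.AssFlat.mem_associatedPrimes_quot_comap_of_finite B A 𝔮 hb0
  have hc := Groth.Agent.H1.AssFibre.fiberIdeal_mem_associatedPrimes p B B 𝔮 hb
  let e : FlatCA.fiberMod p B B ≃ₗ[p.Fiber B] p.Fiber B :=
    (TensorProduct.AlgebraTensorModule.rid B (p.Fiber B) (p.Fiber B) :
      (p.Fiber B) ⊗[B] B ≃ₗ[p.Fiber B] p.Fiber B)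
  have hd : FlatCA.fiberIdeal p 𝔮 ∈ associatedPrimes (p.Fiber B) (p.Fiber B) := by
    rw [← LinearEquiv.AssociatedPrimes.eq e]
    exact hc
  haveI hCM := isCohenMacaulayRing_fiber h p
  have hmin : FlatCA.fiberIdeal p 𝔮 ∈ minimalPrimes (p.Fiber B) :=
    Groth.Agent.H6.Liai.mem_minimalPrimes_of_mem_associatedPrimes hd
  have hpr' : (FlatCA.fiberIdeal p 𝔮').IsPrime := fiberIdeal_isPrime p B 𝔮'
  have hle' : FlatCA.fiberIdeal p 𝔮' ≤ FlatCA.fiberIdeal p 𝔮 := Ideal.map_mono hle
  have hge : FlatCA.fiberIdeal p 𝔮 ≤ FlatCA.fiberIdeal p 𝔮' := hmin.2 ⟨hpr', bot_le⟩ hle'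
  apply le_antisymm hle
  intro s hs
  rw [← inc_mem_fiberIdeal_iff p B 𝔮' s]
  exact hge ((inc_mem_fiberIdeal_iff p B 𝔮 s).mpr hs)

end ass

section main

open MvPolynomial

theorem subsingleton_h1Cotangent (A : Type u) [CommRing A] [IsNoetherianRing A]
    (B : Type u) [CommRing B] [Algebra A B] [Module.Flat A B] (hlci : LCI.IsLCI A B)
    (hgs : ∀ 𝔓 : PrimeSpectrum B,
      (∀ 𝔔 : PrimeSpectrum B, 𝔔 ≤ 𝔓 →
          𝔔.asIdeal.comap (algebraMap A B) = 𝔓.asIdeal.comap (algebraMap A B) → 𝔔 = 𝔓) →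
        𝔓 ∈ Algebra.smoothLocus A B) :
    Subsingleton (Algebra.H1Cotangent A B) := by
  obtain ⟨hft, n, f, hf, hK⟩ := id hlci
  haveI := hft
  haveI : IsNoetherianRing B := Algebra.FiniteType.isNoetherianRing A B
  by_contra hns
  rw [not_subsingleton_iff_nontrivial] at hns
  obtain ⟨𝔮, h𝔮⟩ := associatedPrimes.nonempty B (Algebra.H1Cotangent A B)
  haveI : 𝔮.IsPrime := h𝔮.1
  -- `𝔮` is in the support
  have hsupp : (⟨𝔮, inferInstance⟩ : PrimeSpectrum B) ∈
      Module.support B (Algebra.H1Cotangent A B) := by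
    obtain ⟨-, x, hx⟩ := isAssociatedPrime_iff.mp h𝔮
    rw [Module.mem_support_iff_exists_annihilator]
    refine ⟨x, fun r hr => ?_⟩
    show r ∈ 𝔮
    rw [hx, Submodule.mem_colon_singleton, Submodule.mem_bot]
    exact (Submodule.mem_annihilator_span_singleton x r).mp hr
  -- the presentation
  have hfe : ∀ x, MvPolynomial.aeval (fun i => f (X i)) x = f x := fun x =>
    (AlgHom.congr_fun (MvPolynomial.aeval_unique f) x).symm
  have hsurj : Function.Surjective (MvPolynomial.aeval (R := A) (fun i => f (X i))) := by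
    intro b
    obtain ⟨x, rfl⟩ := hf b
    exact ⟨x, hfe x⟩
  let G : Algebra.Generators A B (Fin n) := Algebra.Generators.ofSurjective _ hsurj
  let E := G.toExtension
  have hker : E.ker = RingHom.ker f.toRingHom := by
    ext x
    show algebraMap E.Ring B x = 0 ↔ f x = 0
    rw [show algebraMap E.Ring B x = f x from hfe x]
  have hK' : LCI.IsKoszulRegularIdeal E.ker := hker ▸ hK
  haveI : Module.Projective (E.Ring ⧸ E.ker) E.ker.Cotangent :=
    Groth.Agent.H8.LCI.projective_cotangent_of_isKoszulRegularIdeal hK'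
  haveI : Module.Projective B E.Cotangent :=
    Groth.Agent.H8.LCI.projective_extCotangent_of_projective E
  have h1 : 𝔮 ∈ associatedPrimes B E.H1Cotangent := by
    rw [LinearEquiv.AssociatedPrimes.eq G.equivH1Cotangent]
    exact h𝔮
  have h2 : 𝔮 ∈ associatedPrimes B E.Cotangent :=
    associatedPrimes.subset_of_injective (f := E.h1Cotangentι) E.h1Cotangentι_injective h1
  have h3 : 𝔮 ∈ associatedPrimes B B :=
    Groth.Agent.H8.Hens.mem_associatedPrimes_self_of_flat h2
  have hsm : (⟨𝔮, inferInstance⟩ : PrimeSpectrum B) ∈ Algebra.smoothLocus A B :=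
    hgs _ (fun 𝔔 hle hc =>
      PrimeSpectrum.ext (eq_of_le_of_mem_associatedPrimes hlci 𝔮 𝔔.asIdeal h3 hle hc))
  rw [Algebra.smoothLocus_eq_compl_support_inter] at hsm
  exact hsm.1 hsupp

end main

end Groth.Agent.H8.H1LCI
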